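import Groth.Prelude.Def_HMNum
import Groth.Agent.S18285

/-!
# Limits under one-parameter subgroups: uniqueness, fixedness, translation
-/

set_option autoImplicit false

universe u

open CategoryTheory CategoryTheory.Limits MonoidalCategory CartesianMonoidalCategory AlgebraicGeometry Opposite
open scoped MonObj

noncomputable section

namespace GrothLib.MuFun27

open Magnet Magnet.MonAct

variable {S : Scheme.{u}} {G X V : Over S}

/-- Points of the monoid scheme of the trivial monoid. -/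
theorem pts_bot_eq {T : Over S} (u v : T ⟶ AMonS S ↥(⊥ : AddSubmonoid ℤ)) : u = v := by
  haveI : IsIso (CommRingCat.ofHom (algebraMap (ULift.{u} ℤ)
      (MonoidAlgebra (ULift.{u} ℤ) (Multiplicative ↥(⊥ : AddSubmonoid ℤ))))) := by
    haveI : Subsingleton ↥(⊥ : AddSubmonoid ℤ) :=
      ⟨fun a b => Subtype.ext ((AddSubmonoid.mem_bot.mp a.2).trans (AddSubmonoid.mem_bot.mp b.2).symm)⟩
    rw [ConcreteCategory.isIso_iff_bijective]
    refine ⟨fun a b e => ?_, fun z => ?_⟩
    · have := congrArg (fun w => w.coeff (1 : Multiplicative ↥(⊥ : AddSubmonoid ℤ))) e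
      simpa using this
    · induction z using MonoidAlgebra.induction_linear with
      | zero => exact ⟨0, map_zero _⟩
      | add a b ha hb =>
          obtain ⟨x, hx⟩ := ha; obtain ⟨y, hy⟩ := hb
          exact ⟨x + y, by rw [map_add, hx, hy]⟩
      | single n c => exact ⟨c, by rw [Subsingleton.elim n 1]; simp⟩
  haveI : IsIso (AMon (ULift.{u} ℤ) ↥(⊥ : AddSubmonoid ℤ)).hom := by
    change IsIso (Spec.map _)
    infer_instance
  haveI : IsIso (AMonS S ↥(⊥ : AddSubmonoid ℤ)).hom := by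
    change IsIso (pullback.snd _ _)
    infer_instance
  apply Over.OverMorphism.ext
  rw [← cancel_mono (AMonS S ↥(⊥ : AddSubmonoid ℤ)).hom, Over.w, Over.w]

/-- The multiplicative group fixes the origin of the affine line. -/
theorem mul_origin {T : Over S} (g : T ⟶ Red.Gm S) :
    (g ≫ HMNum.incl S) * (toUnit T ≫ HMNum.origin S) = toUnit T ≫ HMNum.origin S := by
  have h := (isEquivariant_iff _ _ _).mp (isEquivariant_faceMapS S HMNum.isFace_bot) T g
    (toUnit T ≫ η[AMonS S ↥(⊥ : AddSubmonoid ℤ)])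
  have e : lift g (toUnit T ≫ η[AMonS S ↥(⊥ : AddSubmonoid ℤ)]) ≫ (subAct S ℤ ⊥).act =
      toUnit T ≫ η[AMonS S ↥(⊥ : AddSubmonoid ℤ)] := pts_bot_eq _ _
  rw [reassoc_of% e, subAct, lift_restrict_act, lift_regular_act] at h
  simpa only [HMNum.origin, Category.assoc] using h.symm

theorem lift_subAct {T : Over S} (g : T ⟶ Red.Gm S) (b : T ⟶ HMNum.A1 S) :
    lift g b ≫ (subAct S ℤ HMNum.plus).act = (g ≫ HMNum.incl S) * b := by
  rw [subAct, lift_restrict_act, lift_regular_act]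

variable [GrpObj G] {a : AlgGrp.Action G X} {l : Red.Gm S ⟶ G} [IsMonHom l] {T : Over S}

theorem lift_act_one (a : AlgGrp.Action G X) {T : Over S} (x : T ⟶ X) : lift (1 : T ⟶ G) x ≫ a.act = x :=
  (MonAct.ofAction a).lift_one_act x

theorem lift_act_mul (a : AlgGrp.Action G X) {T : Over S} (g h : T ⟶ G) (x : T ⟶ X) :
    lift (g * h) x ≫ a.act = lift g (lift h x ≫ a.act) ≫ a.act :=
  (MonAct.ofAction a).lift_mul_act g h x

/-- Equivariance of a point of the attractor, on points. -/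
theorem attr_eq (φ : (HMNum.attrPlus a l).obj (op T)) {T' : Over S} (g : T' ⟶ Red.Gm S)
    (b : T' ⟶ HMNum.A1 S) (t : T' ⟶ T) :
    lift ((g ≫ HMNum.incl S) * b) t ≫ φ.1 = lift (g ≫ l) (lift b t ≫ φ.1) ≫ a.act := by
  have h := (mem_eqvHom_iff φ.1).1 φ.2 T' g b t
  rw [lift_subAct] at h
  rw [h]
  exact lift_restrict_act l (MonAct.ofAction a) g _

theorem attrToX_eq (φ : (HMNum.attrPlus a l).obj (op T)) :
    (attrToX (HMNum.gmAct a l) HMNum.plus).app (op T) φ = lift (1 : T ⟶ HMNum.A1 S) (𝟙 T) ≫ φ.1 := by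
  change lift (toUnit T ≫ η[HMNum.A1 S]) (𝟙 T) ≫ φ.1 = _
  rw [Hom.one_def]

/-- A limit point is fixed. -/
theorem isFixedBy_of_isLimitPt {x y : T ⟶ X} (h : HMNum.IsLimitPt a l x y) : HMNum.IsFixedBy a l y := by
  obtain ⟨φ, -, rfl⟩ := h
  intro T' t g
  have e : t ≫ HMNum.limitPt φ = lift (toUnit T' ≫ HMNum.origin S) t ≫ φ.1 := by
    rw [HMNum.limitPt_eq, ← Category.assoc, comp_lift, Category.comp_id, ← Category.assoc,
      toUnit_unique (t ≫ toUnit T) (toUnit T')]
  rw [e, ← attr_eq, mul_origin]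

/-- A fixed point is its own limit. -/
theorem isLimitPt_self {y : T ⟶ X} (h : HMNum.IsFixedBy a l y) : HMNum.IsLimitPt a l y y := by
  refine ⟨⟨snd _ T ≫ y, (mem_eqvHom_iff _).2 fun T' g b t => ?_⟩, ?_, ?_⟩
  · rw [lift_snd_assoc, lift_snd_assoc]
    rw [show lift g (t ≫ y) ≫ (HMNum.gmAct a l).act = lift (g ≫ l) (t ≫ y) ≫ a.act from
      lift_restrict_act l (MonAct.ofAction a) g _]
    exact (h T' t g).symm
  · rw [attrToX_eq, lift_snd_assoc, Category.id_comp]
  · rw [HMNum.limitPt_eq, lift_snd_assoc, Category.id_comp]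

/-- Limits are unique for separated targets. -/
theorem limit_unique [IsSeparated X.hom] {x y y' : T ⟶ X} (h : HMNum.IsLimitPt a l x y)
    (h' : HMNum.IsLimitPt a l x y') : y = y' := by
  obtain ⟨φ, hφ, rfl⟩ := h
  obtain ⟨ψ, hψ, rfl⟩ := h'
  rw [Groth.Agent.S18285.result S ℤ X (HMNum.gmAct a l) HMNum.plus T (hφ.trans hψ.symm)]

/-- Translation of limits along a point `f` of `G` over the affine line intertwining `l'` and `l`. -/
theorem isLimitPt_translate {l' : Red.Gm S ⟶ G} [IsMonHom l'] (f : HMNum.A1 S ⟶ G)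
    (hf : ∀ (T' : Over S) (g : T' ⟶ Red.Gm S) (b : T' ⟶ HMNum.A1 S),
      (((g ≫ HMNum.incl S) * b) ≫ f) * (g ≫ l') = (g ≫ l) * (b ≫ f))
    {x y : T ⟶ X} (h : HMNum.IsLimitPt a l' x y) :
    HMNum.IsLimitPt a l (lift ((1 : T ⟶ HMNum.A1 S) ≫ f) x ≫ a.act)
      (lift (toUnit T ≫ HMNum.origin S ≫ f) y ≫ a.act) := by
  obtain ⟨φ, rfl, rfl⟩ := h
  refine ⟨⟨lift (fst _ T ≫ f) φ.1 ≫ a.act, (mem_eqvHom_iff _).2 fun T' g b t => ?_⟩, ?_, ?_⟩
  · rw [lift_subAct]
    rw [show ∀ z, lift g z ≫ (HMNum.gmAct a l).act = lift (g ≫ l) z ≫ a.act from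
      fun z => lift_restrict_act l (MonAct.ofAction a) g z]
    simp only [comp_lift_assoc, lift_fst_assoc]
    rw [attr_eq φ g b t, ← lift_act_mul, hf, lift_act_mul]
  · rw [attrToX_eq]
    simp only [comp_lift_assoc, lift_fst_assoc]
    rw [attrToX_eq]
  · rw [HMNum.limitPt_eq, HMNum.limitPt_eq]
    simp only [comp_lift_assoc, lift_fst_assoc, Category.assoc]

/-- An extension over the affine line of a conjugate intertwines. -/
theorem intertwine_of_extension [IsSeparated G.hom] (g₀ : 𝟙_ (Over S) ⟶ G) (f : HMNum.A1 S ⟶ G)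
    (hf : HMNum.incl S ≫ f = l * (toUnit _ ≫ g₀) * l⁻¹) (T' : Over S) (g : T' ⟶ Red.Gm S)
    (b : T' ⟶ HMNum.A1 S) :
    (((g ≫ HMNum.incl S) * b) ≫ f) * (g ≫ l) = (g ≫ l) * (b ≫ f) := by
  have key : ∀ {T' : Over S} (u : T' ⟶ Red.Gm S),
      u ≫ HMNum.incl S ≫ f = (u ≫ l) * (toUnit T' ≫ g₀) * (u ≫ l)⁻¹ := by
    intro T' u
    rw [hf, MonObj.comp_mul, MonObj.comp_mul, GrpObj.comp_inv, ← Category.assoc,
      toUnit_unique (u ≫ toUnit _) (toUnit T')]
  have main : (((snd (HMNum.A1 S) (Red.Gm S) ≫ HMNum.incl S) * fst _ _) ≫ f) * (snd _ _ ≫ l) =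
      (snd _ _ ≫ l) * (fst _ _ ≫ f) := by
    refine GrothLib.MagnetSep.ext_map (S := S) HMNum.plus.subtype Subtype.val_injective _ _ ?_
    apply hom_ext_lift₂
    intro T' u g
    simp only [MonObj.comp_mul, lift_whiskerRight_assoc, lift_fst_assoc, lift_snd_assoc, lift_fst, lift_snd,
      ← Category.assoc]
    simp only [lift_whiskerRight, lift_fst, lift_snd]
    rw [← MonObj.mul_comp, Category.assoc, key,
      show (u ≫ AMonS.map S HMNum.plus.subtype) ≫ f = (u ≫ l) * (toUnit T' ≫ g₀) * (u ≫ l)⁻¹ from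
        (Category.assoc _ _ _).trans (key u), MonObj.mul_comp]
    group
  have := congrArg (fun z => lift b g ≫ z) main
  simpa only [MonObj.comp_mul, lift_fst_assoc, lift_snd_assoc, ← Category.assoc, lift_fst, lift_snd] using this

end GrothLib.MuFun27
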