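import Groth.Agent.Lib.MuFun27.Weight

/-!
# Invariance properties of the numerical function
-/

set_option autoImplicit false

universe u

open CategoryTheory CategoryTheory.Limits MonoidalCategory CartesianMonoidalCategory AlgebraicGeometry Opposite
open scoped MonObj

noncomputable section

namespace GrothLib.MuFun27

variable {S : Scheme.{u}} {G X : Over S} [GrpObj G] {a : AlgGrp.Action G X} {B : GLinSh.LinBun G a}
  {l : Red.Gm S ⟶ G} [IsMonHom l] {T : Over S} [Nonempty T.left] [Subsingleton T.left]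

theorem isMu_translate {l' : Red.Gm S ⟶ G} [IsMonHom l'] (f : HMNum.A1 S ⟶ G)
    (hf : ∀ (T' : Over S) (g : T' ⟶ Red.Gm S) (b : T' ⟶ HMNum.A1 S),
      (((g ≫ HMNum.incl S) * b) ≫ f) * (g ≫ l') = (g ≫ l) * (b ≫ f))
    {x : T ⟶ X} {m : ℤ} (h : HMNum.IsMu B l' x m) :
    HMNum.IsMu B l (lift ((1 : T ⟶ HMNum.A1 S) ≫ f) x ≫ a.act) m := by
  obtain ⟨y, hy, hw⟩ := h
  refine ⟨_, isLimitPt_translate f hf hy,
    hasFibreWt_translate B.lift_linear _ (fun T' t g => ?_) (exists_chart_point B.atlas _) hw⟩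
  have e := hf T' g (toUnit T' ≫ HMNum.origin S)
  rw [mul_origin, Category.assoc] at e
  rw [← Category.assoc t, toUnit_unique (t ≫ toUnit T) (toUnit T')]
  exact e.symm

theorem isMu_conj {l' : Red.Gm S ⟶ G} [IsMonHom l'] (g₀ : 𝟙_ (Over S) ⟶ G)
    (hl' : l' = (toUnit _ ≫ g₀)⁻¹ * l * (toUnit _ ≫ g₀)) (x : T ⟶ X) (m : ℤ) :
    HMNum.IsMu B l (lift (toUnit T ≫ g₀) x ≫ a.act) m ↔ HMNum.IsMu B l' x m := by
  have key : ∀ {T' : Over S} (g : T' ⟶ Red.Gm S),
      g ≫ l' = (toUnit T' ≫ g₀)⁻¹ * (g ≫ l) * (toUnit T' ≫ g₀) := by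
    intro T' g
    rw [hl', MonObj.comp_mul, MonObj.comp_mul, GrpObj.comp_inv, ← Category.assoc,
      toUnit_unique (g ≫ toUnit _) (toUnit T')]
  constructor
  · intro h
    have h1 := isMu_translate (B := B) (l := l') (l' := l) (toUnit _ ≫ g₀)⁻¹ (fun T' g b => ?_) h
    · rw [GrpObj.comp_inv, ← Category.assoc, toUnit_unique (_ ≫ toUnit _) (toUnit T), ← lift_act_mul,
        inv_mul_cancel, lift_act_one] at h1
      exact h1
    · rw [key, GrpObj.comp_inv, GrpObj.comp_inv, ← Category.assoc, ← Category.assoc b,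
        toUnit_unique (_ ≫ toUnit _) (toUnit T'), toUnit_unique (b ≫ toUnit _) (toUnit T')]
      group
  · intro h
    have h1 := isMu_translate (B := B) (l := l) (l' := l') (toUnit _ ≫ g₀) (fun T' g b => ?_) h
    · rw [← Category.assoc, toUnit_unique (_ ≫ toUnit _) (toUnit T)] at h1
      exact h1
    · rw [key, ← Category.assoc, ← Category.assoc b,
        toUnit_unique (_ ≫ toUnit _) (toUnit T'), toUnit_unique (b ≫ toUnit _) (toUnit T')]
      group

theorem one_comp_extension (g₀ : 𝟙_ (Over S) ⟶ G) (f : HMNum.A1 S ⟶ G)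
    (hf : HMNum.incl S ≫ f = l * (toUnit _ ≫ g₀) * l⁻¹) (T : Over S) :
    (1 : T ⟶ HMNum.A1 S) ≫ f = toUnit T ≫ g₀ := by
  rw [← MonObj.one_comp (HMNum.incl S), Category.assoc, hf, MonObj.comp_mul, MonObj.comp_mul, GrpObj.comp_inv,
    MonObj.one_comp, ← Category.assoc, toUnit_unique (_ ≫ toUnit _) (toUnit T)]
  group

theorem isMu_parabolic [IsSeparated G.hom] (g₀ : 𝟙_ (Over S) ⟶ G) (f : HMNum.A1 S ⟶ G)
    (hf : HMNum.incl S ≫ f = l * (toUnit _ ≫ g₀) * l⁻¹) (x : T ⟶ X) (m : ℤ) :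
    HMNum.IsMu B l x m ↔ HMNum.IsMu B l (lift (toUnit T ≫ g₀) x ≫ a.act) m := by
  constructor
  · intro h
    have h1 := isMu_translate f (intertwine_of_extension g₀ f hf) h
    rwa [one_comp_extension g₀ f hf] at h1
  · intro h
    have hf' : HMNum.incl S ≫ f⁻¹ = l * (toUnit _ ≫ g₀⁻¹) * l⁻¹ := by
      rw [GrpObj.comp_inv, hf, GrpObj.comp_inv]
      group
    have h1 := isMu_translate f⁻¹ (intertwine_of_extension g₀⁻¹ f⁻¹ hf') h
    rw [one_comp_extension g₀⁻¹ f⁻¹ hf', GrpObj.comp_inv, ← lift_act_mul, inv_mul_cancel, lift_act_one] at h1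
    exact h1

omit [Nonempty T.left] [Subsingleton T.left] in
theorem isMu_limit [IsSeparated X.hom] {x y : T ⟶ X} (hy : HMNum.IsLimitPt a l x y) (m : ℤ) :
    HMNum.IsMu B l x m ↔ HMNum.IsMu B l y m := by
  have hfix := isFixedBy_of_isLimitPt hy
  constructor
  · rintro ⟨z, hz, hw⟩
    obtain rfl := limit_unique hy hz
    exact ⟨y, isLimitPt_self hfix, hw⟩
  · rintro ⟨z, hz, hw⟩
    obtain rfl := limit_unique (isLimitPt_self hfix) hz
    exact ⟨y, hy, hw⟩

/-- The conjugate of a one-parameter subgroup. -/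
theorem isMonHom_conj (g₀ : 𝟙_ (Over S) ⟶ G) :
    IsMonHom ((toUnit _ ≫ g₀)⁻¹ * l * (toUnit _ ≫ g₀) : Red.Gm S ⟶ G) := by
  set c : Red.Gm S ⟶ G := (toUnit _ ≫ g₀)⁻¹ * l * (toUnit _ ≫ g₀) with hc
  have key : ∀ {T' : Over S} (g : T' ⟶ Red.Gm S),
      g ≫ c = (toUnit T' ≫ g₀)⁻¹ * (g ≫ l) * (toUnit T' ≫ g₀) := by
    intro T' g
    rw [hc, MonObj.comp_mul, MonObj.comp_mul, GrpObj.comp_inv, ← Category.assoc,
      toUnit_unique (g ≫ toUnit _) (toUnit T')]
  refine ⟨?_, ?_⟩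
  · have := key (1 : 𝟙_ (Over S) ⟶ Red.Gm S)
    rw [MonObj.one_comp l, _root_.mul_one, inv_mul_cancel] at this
    simpa [Hom.one_def] using this
  · have h1 := key ((fst (Red.Gm S) (Red.Gm S)) * snd _ _)
    rw [MonObj.mul_comp _ _ l] at h1
    have h2 := key (fst (Red.Gm S) (Red.Gm S))
    have h3 := key (snd (Red.Gm S) (Red.Gm S))
    have h4 : ((fst (Red.Gm S) (Red.Gm S)) * snd _ _) ≫ c = (fst _ _ ≫ c) * (snd _ _ ≫ c) := by
      rw [h2, h3, h1]; group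
    simpa [Hom.mul_def] using h4

end GrothLib.MuFun27
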