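import Groth.Agent.Lib.MuFun27.Limit

/-!
# The weight on the fibre at translated fixed points
-/

set_option autoImplicit false

universe u

open CategoryTheory CategoryTheory.Limits MonoidalCategory CartesianMonoidalCategory AlgebraicGeometry Opposite
open scoped MonObj

noncomputable section

namespace GrothLib.MuFun27

variable {S : Scheme.{u}} {G X V : Over S} [GrpObj G] {a : AlgGrp.Action G X} {π : V ⟶ X}
  {Φ : AlgGrp.Action G V}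

theorem act_π (hπ : Φ.act ≫ π = (G ◁ π) ≫ a.act) {T : Over S} (g : T ⟶ G) (v : T ⟶ V) :
    (lift g v ≫ Φ.act) ≫ π = lift g (v ≫ π) ≫ a.act := by
  rw [Category.assoc, hπ, lift_whiskerLeft_assoc]

theorem evalFn_congr {U : X.left.Opens} (y : Γ(V.left, π.left ⁻¹ᵁ U)) {T : Over S} {v v' : T ⟶ V} (e : v = v')
    (h : ⊤ ≤ v.left ⁻¹ᵁ (π.left ⁻¹ᵁ U)) (h' : ⊤ ≤ v'.left ⁻¹ᵁ (π.left ⁻¹ᵁ U)) :
    HMNum.evalFn π y v h = HMNum.evalFn π y v' h' := by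
  subst e; rfl

/-- Linearity of the lifted action, on points. -/
theorem exists_evalFn_act {chart : ∀ U : X.left.Opens, Set (Γ(V.left, π.left ⁻¹ᵁ U))}
    {hπ : Φ.act ≫ π = (G ◁ π) ≫ a.act} (hl : GLinSh.IsLinearLift a π Φ chart hπ)
    {U U' : X.left.Opens} {y : Γ(V.left, π.left ⁻¹ᵁ U)} {y' : Γ(V.left, π.left ⁻¹ᵁ U')}
    (hy : y ∈ chart U) (hy' : y' ∈ chart U') :
    ∃ F : ∀ (T : Over S), (T ⟶ G) → (T ⟶ X) → Γ(T.left, ⊤), ∀ (T : Over S) (g : T ⟶ G) (v : T ⟶ V)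
      (hv : ⊤ ≤ v.left ⁻¹ᵁ (π.left ⁻¹ᵁ U)) (hgv : ⊤ ≤ (lift g v ≫ Φ.act).left ⁻¹ᵁ (π.left ⁻¹ᵁ U')),
      HMNum.evalFn π y' (lift g v ≫ Φ.act) hgv = F T g (v ≫ π) * HMNum.evalFn π y v hv := by
  classical
  obtain ⟨c, hc⟩ := hl U U' y y' hy hy'
  refine ⟨fun T g x => if h : ⊤ ≤ (lift g x).left ⁻¹ᵁ (a.act.left ⁻¹ᵁ U' ⊓ (snd G X).left ⁻¹ᵁ U) then
    (lift g x).left.appLE _ ⊤ h c else 0, fun T g v hv hgv => ?_⟩
  have hx : ⊤ ≤ (lift g (v ≫ π)).left ⁻¹ᵁ (a.act.left ⁻¹ᵁ U' ⊓ (snd G X).left ⁻¹ᵁ U) := by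
    intro p hp
    refine ⟨?_, ?_⟩
    · have : p ∈ ((lift g v ≫ Φ.act) ≫ π).left ⁻¹ᵁ U' := hgv hp
      rwa [act_π hπ] at this
    · have : p ∈ (v ≫ π).left ⁻¹ᵁ U := hv hp
      rwa [← lift_snd g (v ≫ π)] at this
  dsimp only
  rw [dif_pos hx]
  have hz : ⊤ ≤ (lift g v).left ⁻¹ᵁ GLinSh.liftOpen a π U U' := by
    have e : (lift g v).left ⁻¹ᵁ GLinSh.liftOpen a π U U' =
        (lift g v ≫ (G ◁ π)).left ⁻¹ᵁ (a.act.left ⁻¹ᵁ U' ⊓ (snd G X).left ⁻¹ᵁ U) := rfl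
    rw [e, lift_whiskerLeft]
    exact hx
  have h := congrArg (fun z => (lift g v).left.appLE (GLinSh.liftOpen a π U U') ⊤ hz z) hc
  simp only [map_mul] at h
  rw [← CommRingCat.comp_apply, ← CommRingCat.comp_apply, ← CommRingCat.comp_apply, Scheme.Hom.appLE_comp_appLE,
    Scheme.Hom.appLE_comp_appLE, Scheme.Hom.appLE_comp_appLE] at h
  simp only [← Over.comp_left, lift_snd, lift_whiskerLeft] at h
  exact h

/-- Translating a fixed point by a point intertwining two one-parameter subgroups preserves the fibre weight. -/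
theorem hasFibreWt_translate {chart : ∀ U : X.left.Opens, Set (Γ(V.left, π.left ⁻¹ᵁ U))}
    {hπ : Φ.act ≫ π = (G ◁ π) ≫ a.act} (hl : GLinSh.IsLinearLift a π Φ chart hπ)
    {l l' : Red.Gm S ⟶ G} {T : Over S} (h : T ⟶ G)
    (hconj : ∀ (T' : Over S) (t : T' ⟶ T) (g : T' ⟶ Red.Gm S), (g ≫ l) * (t ≫ h) = (t ≫ h) * (g ≫ l'))
    {x₀ : T ⟶ X} {w : ℤ}
    (hchart : ∃ (U : X.left.Opens) (y : Γ(V.left, π.left ⁻¹ᵁ U)), y ∈ chart U ∧
      (lift h x₀ ≫ a.act).left ⁻¹ᵁ U = ⊤)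
    (hw : HMNum.HasFibreWt a π chart Φ l' x₀ w) :
    HMNum.HasFibreWt a π chart Φ l (lift h x₀ ≫ a.act) w := by
  obtain ⟨hfix, U, y, hy, hU, hwt⟩ := hw
  obtain ⟨U', y', hy', hU'⟩ := hchart
  obtain ⟨F, hF⟩ := exists_evalFn_act hl hy hy'
  refine ⟨fun T' t g => ?_, U', y', hy', hU', fun T' t g v hv hgv => ?_⟩
  · rw [comp_lift_assoc, ← lift_act_mul, hconj, lift_act_mul, hfix]
  · set p := t ≫ h with hp
    let v₁ := lift p⁻¹ v ≫ Φ.act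
    have hv₁ : v₁ ≫ π = t ≫ x₀ := by
      rw [act_π hπ, hv, comp_lift_assoc, ← lift_act_mul, ← hp, inv_mul_cancel, lift_act_one]
    have hgv₁ : (lift (g ≫ l') v₁ ≫ Φ.act) ≫ π = t ≫ x₀ := by
      rw [act_π hπ, hv₁, hfix]
    have e1 : v = lift p v₁ ≫ Φ.act := by
      rw [← lift_act_mul, mul_inv_cancel, lift_act_one]
    have e2 : lift (g ≫ l) v ≫ Φ.act = lift p (lift (g ≫ l') v₁ ≫ Φ.act) ≫ Φ.act := by
      conv_lhs => rw [e1]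
      rw [← lift_act_mul, hconj, lift_act_mul]
    rw [evalFn_congr y' e1 (HMNum.top_le_preimage π hU' hv) (e1 ▸ HMNum.top_le_preimage π hU' hv),
      evalFn_congr y' e2 (HMNum.top_le_preimage π hU' hgv) (e2 ▸ HMNum.top_le_preimage π hU' hgv),
      hF T' p v₁ (HMNum.top_le_preimage π hU hv₁),
      hF T' p _ (HMNum.top_le_preimage π hU hgv₁), hv₁, hgv₁, hwt T' t g v₁ hv₁ hgv₁]
    ring

theorem exists_chart_point (A : GLinSh.LinAtlas π) {T : Over S} [Nonempty T.left] [Subsingleton T.left]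
    (x : T ⟶ X) : ∃ (U : X.left.Opens) (y : Γ(V.left, π.left ⁻¹ᵁ U)), y ∈ A.chart U ∧ x.left ⁻¹ᵁ U = ⊤ := by
  obtain ⟨p⟩ := ‹Nonempty T.left›
  obtain ⟨U, hU, y, hy⟩ := A.cover (x.left.base p)
  refine ⟨U, y, hy, TopologicalSpace.Opens.ext (Set.eq_univ_of_forall fun q => ?_)⟩
  rw [Subsingleton.elim q p]; exact hU

end GrothLib.MuFun27
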